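import Cfsg.Agent.Mrg.Omega.NO1.SzMod.Mod
import Cfsg.Agent.Mrg.Omega.TwoFFour.SzNatC
import Cfsg.Agent.Mrg.Omega.NO1.Field.FZero


/-!
# FIELD-4 of the N1 package: `szOut : Field.SzOut` (CLAIM A of THEOREM SZ, 406 #19896)

`exists_out` : all the fields of `SzOut`, and `K = C_{B₀}(T)`, `K = [B₀, t]` for every `t ∈ T - A₀`.
-/

set_option autoImplicit false
set_option linter.unusedSectionVars false
set_option linter.style.haveILetI false

namespace Cfsg.Agent.Omega.NO1.SzMod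

open Cfsg.Agent.LieRecognition.SzMatrix Cfsg.Agent.ThreePrime.SzRel Cfsg.Agent.Omega.TwoFFour
open Cfsg.Agent.Omega.NOne.Flat (Spr)
open Cfsg.Agent.Omega.NO1.Field (IsSz SzOut)

universe u

/-- the additive module of a group of automorphisms -/
@[reducible] def addAct {M : Type u} [CommGroup M] {Y : Type*} [Group Y] (φ : Y →* MulAut M) :
    DistribMulAction Y (Additive M) where
  smul g m := Additive.ofMul (φ g m.toMul)
  one_smul m := by show Additive.ofMul (φ 1 m.toMul) = m; rw [map_one]; rfl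
  mul_smul x y m := by
    show Additive.ofMul (φ (x * y) m.toMul) = Additive.ofMul (φ x (φ y m.toMul))
    rw [map_mul]; rfl
  smul_zero g := by show Additive.ofMul (φ g 1) = 0; rw [map_one]; rfl
  smul_add g a b := by
    show Additive.ofMul (φ g (a.toMul * b.toMul)) = Additive.ofMul (φ g a.toMul) + Additive.ofMul (φ g b.toMul)
    rw [map_mul]; rfl

/-- `q² (q² + 1) (q - 1)` has 2-part `q²` -/
theorem card_sylow {L : Type*} [Group L] [Finite L] {q n : ℕ} (hq : q = 2 ^ n) (h4 : 4 ≤ q)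
    (hL : Nat.card L = q ^ 2 * (q ^ 2 + 1) * (q - 1)) (P : Sylow 2 L) : Nat.card P = q ^ 2 := by
  have : Fact (Nat.Prime 2) := ⟨Nat.prime_two⟩
  have hn : 1 ≤ n := by
    rcases Nat.eq_zero_or_pos n with h | h
    · rw [h] at hq; omega
    · exact h
  have h2q : 2 ∣ q := by rw [hq]; exact dvd_pow_self 2 (by omega)
  have h1 : ¬ 2 ∣ (q ^ 2 + 1) * (q - 1) := by
    rw [Nat.Prime.dvd_mul Nat.prime_two]
    rintro (h | h)
    · have : 2 ∣ q ^ 2 := dvd_pow h2q (by norm_num)
      omega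
    · omega
  rw [P.card_eq_multiplicity, hL, mul_assoc, Nat.factorization_mul (by positivity) (by
    intro h; rw [h] at h1; exact h1 (dvd_zero _)), Finsupp.add_apply,
    Nat.factorization_eq_zero_of_not_dvd h1, add_zero, hq, ← pow_mul]
  rw [Nat.Prime.factorization_pow Nat.prime_two, Finsupp.single_eq_same]

/-- **CLAIM A over `Spr`**. -/
theorem exists_out (M : Type u) [Group M] [Finite M] (B : Bool → Subgroup M) (A : Bool → Subgroup (MulAut M))
    (h : Spr B A) (h4 : 4 ≤ Nat.card (A false)) (hs : IsSz ↥(A false ⊔ A true) (Nat.card (A false))) :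
    ∃ (T : Subgroup (MulAut M)) (K : Subgroup M), A false ≤ T ∧ T ≤ A false ⊔ A true ∧
        Nat.card T = Nat.card (A false) ^ 2 ∧ (∀ t ∈ T, ∀ a ∈ A false, t * a = a * t) ∧
        (∀ t ∈ T, ∀ m ∈ B false, t m ∈ B false) ∧ K ≤ B false ∧ Nat.card K ^ 2 = Nat.card (B false) ∧
        (∀ t ∈ T, ∀ m ∈ B false, t m * m⁻¹ ∈ K) ∧ (∀ t ∈ T, ∀ m ∈ K, t m = m) ∧
        (∀ t ∈ T, (∀ m ∈ B false, t m = m) → t ∈ A false) ∧
        (∀ m ∈ B false, (∀ t ∈ T, t m = m) → m ∈ K) ∧
        (∀ t ∈ T, t ∉ A false → ∀ m ∈ B false, t m = m → m ∈ K) ∧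
        (∀ t ∈ T, t ∉ A false → ∀ m ∈ K, ∃ m' ∈ B false, m = t m' * m'⁻¹) ∧
        (∃ t ∈ T, t ∉ A false) := by
  have : Fact (Nat.Prime 2) := ⟨Nat.prime_two⟩
  have hfin : Finite (MulAut M) := Finite.of_injective (fun f : MulAut M => (f : M → M)) DFunLike.coe_injective
  obtain ⟨hsz, hcard⟩ := hs
  set L : Subgroup (MulAut M) := A false ⊔ A true with hLdef
  have hAL : A false ≤ L := le_sup_left
  -- `|A₀|` is a power of 2
  have hA2 : IsPGroup 2 (A false) := by
    intro a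
    refine ⟨1, Subtype.ext ?_⟩
    rw [pow_one]
    show (a : MulAut M) ^ 2 = 1
    rw [sq]
    exact h.Asq false a a.2
  obtain ⟨n, hn⟩ := IsPGroup.iff_card.1 hA2
  have hA2' : IsPGroup 2 ((A false).subgroupOf L) :=
    hA2.of_injective (Subgroup.subgroupOfEquivOfLe hAL).toMonoidHom (Subgroup.subgroupOfEquivOfLe hAL).injective
  obtain ⟨P, hP⟩ := hA2'.exists_le_sylow
  have hPc := card_sylow hn h4 hcard P
  obtain ⟨F, iF, iF', m, hF, hm, f, hf⟩ := exists_coord hsz P
  set H := good hF with hHdef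
  have h3 : 3 ≤ Nat.card F := by
    rw [Nat.card_eq_fintype_card, hF]
    calc 3 ≤ 2 ^ 3 := by norm_num
      _ ≤ 2 ^ (2 * m + 1) := Nat.pow_le_pow_right (by norm_num) (by omega)
  -- `|P| = |F|²`
  have hPF : Nat.card P = Nat.card F ^ 2 := by
    have e : P ≃ F × F := by
      refine Equiv.symm (Equiv.ofBijective (fun p : F × F => (⟨f.symm (H.u p.1 p.2), (hf _).2 ⟨p.1, p.2, by
        rw [MulEquiv.apply_symm_apply]⟩⟩ : P)) ⟨?_, ?_⟩)
      · rintro ⟨a, b⟩ ⟨c, d⟩ hab
        have h5 := f.symm.injective (congrArg Subtype.val hab)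
        obtain ⟨h6, h7⟩ := H.u_inj h5
        exact Prod.ext h6 h7
      · intro x
        obtain ⟨a, b, hab⟩ := (hf x).1 x.2
        exact ⟨(a, b), Subtype.ext (by
          show f.symm (H.u a b) = x
          rw [← hab, MulEquiv.symm_apply_apply])⟩
    rw [Nat.card_congr e, Nat.card_prod, sq]
  have hqF : Nat.card (A false) = Nat.card F := by
    have h5 : Nat.card (A false) ^ 2 = Nat.card F ^ 2 := by rw [← hPc, hPF]
    exact Nat.pow_left_injective (n := 2) (by norm_num) h5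
  -- `A₀ = {u 0 b}`
  have hAu : ∀ x : L, (x : MulAut M) ∈ A false → ∃ b, f x = H.u 0 b := by
    intro x hx
    have h5 : x ∈ (P : Subgroup L) := hP (Subgroup.mem_subgroupOf.2 hx)
    obtain ⟨a, b, hab⟩ := (hf x).1 h5
    have h6 : x * x = 1 := Subtype.ext (h.Asq false x hx)
    have h7 : H.u a b * H.u a b = 1 := by rw [← hab, ← map_mul, h6, map_one]
    rw [of_sq H h7] at hab
    exact ⟨b, hab⟩
  have hAu' : ∀ b, ((f.symm (H.u 0 b) : L) : MulAut M) ∈ A false := by
    intro b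
    have h5 : H.u 0 b ∈ ((A false).subgroupOf L).map f.toMonoidHom := by
      refine omega_of_card H ?_ ?_ b
      · rintro _ ⟨x, hx, rfl⟩
        exact hAu x (Subgroup.mem_subgroupOf.1 hx)
      · rw [← hqF, Nat.card_congr (Subgroup.equivMapOfInjective _ _ f.injective).symm.toEquiv,
          Nat.card_congr (Subgroup.subgroupOfEquivOfLe hAL).toEquiv]
    obtain ⟨x, hx, hxb⟩ := h5
    have h6 : f.symm (H.u 0 b) = x := by rw [← hxb]; exact f.symm_apply_apply x
    rw [h6]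
    exact Subgroup.mem_subgroupOf.1 hx
  -- the module
  letI : CommGroup M := { ‹Group M› with mul_comm := h.comm }
  let φ : LS F (2 ^ (m + 1)) →* MulAut M := L.subtype.comp f.symm.toMonoidHom
  have hφ : ∀ g, φ g = ((f.symm g : L) : MulAut M) := fun g => rfl
  have hφA : ∀ b, φ (H.u 0 b) ∈ A false := hAu'
  have hφne : ∀ b, b ≠ 0 → φ (H.u 0 b) ≠ 1 := by
    intro b hb h5
    have h6 : f.symm (H.u 0 b) = 1 := Subtype.ext h5
    have h7 : H.u 0 b = 1 := by rw [← f.apply_symm_apply (H.u 0 b), h6, map_one]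
    rw [← H.u_zero] at h7
    exact hb (H.u_inj h7).2
  letI := addAct φ
  have hact : ∀ g (x : M), g • Additive.ofMul x = Additive.ofMul (φ g x) := fun _ _ => rfl
  have hB0 : ∀ x : M, Additive.ofMul x ∈ B0 H (Additive M) ↔ x ∈ B false := by
    intro x
    constructor
    · intro hx
      exact h.free false _ (hφA 1) (hφne 1 one_ne_zero) x (Additive.ofMul.injective (hx 1))
    · intro hx c
      exact congrArg Additive.ofMul (h.fix false _ (hφA c) x hx)
  have hsub : ∀ g (x : M), g • Additive.ofMul x - Additive.ofMul x = Additive.ofMul (φ g x * x⁻¹) := by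
    intro g x
    rw [hact, sub_eq_add_neg]; rfl
  have hSM : SM H (Additive M) := by
    refine ⟨fun x => ?_, ?_, ?_, ?_, ?_⟩
    · exact congrArg Additive.ofMul (h.sq x.toMul)
    · intro b c x
      have h5 : φ (H.u 0 c) x.toMul * x.toMul⁻¹ ∈ B false := h.into false _ (hφA c) _
      have h6 : H.u 0 c • x - x = Additive.ofMul (φ (H.u 0 c) x.toMul * x.toMul⁻¹) := hsub _ x.toMul
      rw [h6]
      exact (hB0 _).2 h5 b
    · intro b hb x hx
      exact (hB0 x.toMul).2 (h.free false _ (hφA b) (hφne b hb) _ (Additive.ofMul.injective hx))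
    · intro b hb x hx
      have hx' : x.toMul ∈ B false := (hB0 x.toMul).1 hx
      -- `B true → B false` injective
      let g : B true → B false := fun y => ⟨φ (H.u 0 b) y * (y : M)⁻¹, h.into false _ (hφA b) _⟩
      have hg : Function.Injective g := by
        intro y z hyz
        have h5 : φ (H.u 0 b) y * (y : M)⁻¹ = φ (H.u 0 b) z * (z : M)⁻¹ := congrArg Subtype.val hyz
        have h6 : φ (H.u 0 b) ((y : M) * (z : M)⁻¹) = (y : M) * (z : M)⁻¹ := by
          rw [map_mul, map_inv]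
          calc φ (H.u 0 b) y * (φ (H.u 0 b) z)⁻¹ = (φ (H.u 0 b) y * (y : M)⁻¹) * (y * (φ (H.u 0 b) z)⁻¹) := by
                rw [mul_assoc, inv_mul_cancel_left]
            _ = (φ (H.u 0 b) z * (z : M)⁻¹) * (y * (φ (H.u 0 b) z)⁻¹) := by rw [h5]
            _ = (y : M) * (z : M)⁻¹ := by
              rw [mul_comm (φ (H.u 0 b) (z : M)) _, mul_comm (y : M) (φ (H.u 0 b) (z : M))⁻¹, mul_assoc,
                mul_inv_cancel_left, mul_comm]
        have h7 : (y : M) * (z : M)⁻¹ ∈ B false := h.free false _ (hφA b) (hφne b hb) _ h6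
        have h8 : (y : M) * (z : M)⁻¹ ∈ B false ⊓ B true := ⟨h7, (B true).mul_mem y.2 ((B true).inv_mem z.2)⟩
        rw [h.disj, Subgroup.mem_bot] at h8
        exact Subtype.ext (mul_inv_eq_one.1 h8)
      have hbij := hg.bijective_of_nat_card_le (le_of_eq h.card)
      obtain ⟨y, hy⟩ := hbij.2 ⟨x.toMul, hx'⟩
      refine ⟨Additive.ofMul (y : M), ?_⟩
      rw [hsub]
      have h5 : φ (H.u 0 b) y * (y : M)⁻¹ = x.toMul := congrArg Subtype.val hy
      rw [h5]; rfl
    · intro x hx hwx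
      have hx' : x.toMul ∈ B false := (hB0 x.toMul).1 hx
      have hwx' : φ H.w x.toMul ∈ B false := (hB0 _).1 hwx
      rcases h.spread false false (φ H.w) (f.symm H.w).2 with h5 | h5
      · exfalso
        have h6 := h.stab false false (φ H.w) (f.symm H.w).2 h5
        have h7 : MulAut.conj (φ H.w) (φ (H.u 0 1)) ∈ A false := by
          rw [← h6]; exact ⟨_, hφA 1, rfl⟩
        have h8 : MulAut.conj (φ H.w) (φ (H.u 0 1)) = φ (H.w * H.u 0 1 * H.w) := by
          rw [MulAut.conj_apply, ← map_inv, H.w_inv, ← map_mul, ← map_mul]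
        rw [h8, hφ] at h7
        obtain ⟨b, hb⟩ := hAu _ h7
        rw [MulEquiv.apply_symm_apply] at hb
        have h9 := congrArg (fun g : LS F (2 ^ (m + 1)) => mv g.1 ![1, 0, 0, 0] 2) hb
        have h10 : mv (W F * H.U 0 1 * W F) ![1, 0, 0, 0] 2 = mv (H.U 0 b) ![1, 0, 0, 0] 2 := h9
        rw [mv_mul, mv_mul, mv_W, mv_U, mv_W, mv_U] at h10
        simp at h10
      · have h6 : φ H.w x.toMul ∈ (B false).map ((φ H.w : MulAut M) : M ≃* M).toMonoidHom ⊓ B false :=
          ⟨⟨_, hx', rfl⟩, hwx'⟩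
        rw [h5, Subgroup.mem_bot] at h6
        have h7 : x.toMul = 1 := by
          have h8 : φ H.w x.toMul = φ H.w 1 := by rw [h6, map_one]
          exact (φ H.w).injective h8
        exact Additive.toMul.injective h7
  -- the output
  let T : Subgroup (MulAut M) := (P : Subgroup L).map L.subtype
  have hT : ∀ t, t ∈ T ↔ ∃ a b, t = φ (H.u a b) := by
    intro t
    constructor
    · rintro ⟨x, hx, rfl⟩
      obtain ⟨a, b, hab⟩ := (hf x).1 hx
      refine ⟨a, b, ?_⟩
      rw [hφ, ← hab, MulEquiv.symm_apply_apply]; rfl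
    · rintro ⟨a, b, rfl⟩
      exact ⟨f.symm (H.u a b), (hf _).2 ⟨a, b, by rw [MulEquiv.apply_symm_apply]⟩, rfl⟩
  have hTA : ∀ a b, φ (H.u a b) ∉ A false → a ≠ 0 := by
    rintro a b h5 rfl
    exact h5 (hφA b)
  have hne1 : φ (H.u 1 0) ∉ A false := by
    intro h5
    obtain ⟨b, hb⟩ := hAu (f.symm (H.u 1 0)) h5
    rw [MulEquiv.apply_symm_apply] at hb
    exact one_ne_zero (H.u_inj hb).1
  let K : Subgroup M :=
    { carrier := {x | Fx H (Additive.ofMul x)}
      one_mem' := Fx.zero (H := H) (P := Additive M)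
      mul_mem' := fun {a b} ha hb => Fx.add (P := Additive M) ha hb
      inv_mem' := fun {a} ha => Fx.neg (P := Additive M) ha }
  have hK : ∀ x, x ∈ K ↔ Fx H (Additive.ofMul x) := fun x => Iff.rfl
  have hKB : K ≤ B false := fun x hx => (hB0 x).1 (TT_le (P := Additive M) hx)
  refine ⟨T, K, ?_, ?_, ?_, ?_, ?_, hKB, ?_, ?_, ?_, ?_, ?_, ?_, ?_, ?_⟩
  · intro a ha
    obtain ⟨b, hb⟩ := hAu ⟨a, hAL ha⟩ ha
    refine (hT a).2 ⟨0, b, ?_⟩
    rw [hφ, ← hb, MulEquiv.symm_apply_apply]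
  · rintro _ ⟨x, -, rfl⟩
    exact x.2
  · have h5 : Nat.card T = Nat.card P :=
      (Nat.card_congr (Subgroup.equivMapOfInjective _ _ L.subtype_injective).toEquiv).symm
    rw [h5, hPc]
  · intro t ht a ha
    obtain ⟨x, y, rfl⟩ := (hT t).1 ht
    obtain ⟨b, hb⟩ := hAu ⟨a, hAL ha⟩ ha
    have h5 : a = φ (H.u 0 b) := by rw [hφ, ← hb, MulEquiv.symm_apply_apply]
    rw [h5, ← map_mul, ← map_mul, H.u_mul, H.u_mul]
    congr 2
    · ring
    · rw [map_zero]; ring
  · intro t ht x hx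
    obtain ⟨a, b, rfl⟩ := (hT t).1 ht
    exact (hB0 _).1 (u_mem_B0 ((hB0 x).2 hx) a b)
  · have h5 : Nat.card K = Nat.card (TT H (Additive M)) :=
      Nat.card_congr ⟨fun x => ⟨Additive.ofMul (x : M), x.2⟩, fun x => ⟨(x : Additive M).toMul, x.2⟩,
        fun _ => rfl, fun _ => rfl⟩
    have h6 : Nat.card (B false) = Nat.card (B0 H (Additive M)) :=
      Nat.card_congr ⟨fun x => ⟨Additive.ofMul (x : M), (hB0 _).2 x.2⟩,
        fun x => ⟨(x : Additive M).toMul, (hB0 _).1 x.2⟩, fun _ => rfl, fun _ => rfl⟩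
    rw [h5, h6, sq, ← hSM.card_TT h3]
  · intro t ht x hx
    obtain ⟨a, b, rfl⟩ := (hT t).1 ht
    rw [hK]
    intro a' b'
    have h5 := hSM.comm_fix h3 ((hB0 x).2 hx) a b a' b'
    rw [hsub] at h5
    exact h5
  · intro t ht x hx
    obtain ⟨a, b, rfl⟩ := (hT t).1 ht
    exact Additive.ofMul.injective (hx a b)
  · intro t ht hfix
    by_contra hcon
    obtain ⟨a, b, rfl⟩ := (hT t).1 ht
    have ha := hTA a b hcon
    apply h.ne false
    rw [eq_bot_iff]
    intro x hx
    obtain ⟨y, hy, hxy⟩ := hSM.exists_comm ha ((hB0 x).2 hx) (congrArg Additive.ofMul (hfix x hx))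
    have h6 : H.u a b • y = y := congrArg Additive.ofMul (hfix y.toMul ((hB0 _).1 hy))
    rw [h6, sub_self] at hxy
    exact Subgroup.mem_bot.2 (Additive.ofMul.injective hxy)
  · intro x hx hfix
    rw [hK]
    intro a b
    exact congrArg Additive.ofMul (hfix _ ((hT _).2 ⟨a, b, rfl⟩))
  · intro t ht htA x hx hfix
    obtain ⟨a, b, rfl⟩ := (hT t).1 ht
    rw [hK]
    intro a' b'
    exact hSM.fix_of_fix h3 (hTA a b htA) ((hB0 x).2 hx) (congrArg Additive.ofMul hfix) a' b'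
  · intro t ht htA x hx
    obtain ⟨a, b, rfl⟩ := (hT t).1 ht
    obtain ⟨y, hy, hxy⟩ := hSM.exists_comm (hTA a b htA) ((hB0 x).2 (hKB hx)) (hx a b)
    refine ⟨y.toMul, (hB0 _).1 hy, Additive.ofMul.injective ?_⟩
    rw [hxy]
    exact hsub _ y.toMul
  · exact ⟨φ (H.u 1 0), (hT _).2 ⟨1, 0, rfl⟩, hne1⟩

/-- **FIELD-4.** -/
theorem szOut : SzOut.{u} := by
  intro M _ _ B A h h4 hs
  obtain ⟨T, K, h1, h2, h3, h5, h6, h7, h8, h9, h10, h11, -⟩ := exists_out M B A h h4 hs
  exact ⟨T, K, h1, h2, h3, h5, h6, h7, h8, h9, h10, h11⟩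

end Cfsg.Agent.Omega.NO1.SzMod
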