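import Cfsg.Agent.Mrg.Omega.TwoFFour.SzNatC
import Cfsg.Agent.Omega.NO1.SzMod.Core

section


/-!
# THEOREM SZ (406 #19896), CLAIM A: the modules

`SM H P`: `P` an `F₂ Sz(q)`-module such that `Z = {u 0 b}` is quadratic, all `1 ≠ z ∈ Z` have the same fixed points
`B0 = C_P(z) ≤ [P, z]`, and `B0 ∩ w B0 = 0`. Submodules and quotients have the same property (`SM.sub`, `SM.quo`).
-/

set_option autoImplicit false
set_option linter.unusedSectionVars false
set_option linter.deprecated false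
set_option linter.style.haveILetI false

namespace Cfsg.Agent.Omega.NO1.SzMod

open Cfsg.Agent.LieRecognition.SzMatrix Cfsg.Agent.ThreePrime.SzRel Cfsg.Agent.Omega.TwoFFour

section acts

variable {Y M : Type*} [Group Y] [AddCommGroup M] [DistribMulAction Y M]

/-- the action on an invariant subgroup -/
@[reducible] def subAct (A : AddSubgroup M) (hA : ∀ y : Y, ∀ m ∈ A, y • m ∈ A) : DistribMulAction Y A where
  smul y m := ⟨y • (m : M), hA y m m.2⟩
  one_smul m := Subtype.ext (one_smul Y (m : M))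
  mul_smul x y m := Subtype.ext (mul_smul x y (m : M))
  smul_zero y := Subtype.ext (smul_zero y)
  smul_add y a b := Subtype.ext (smul_add y (a : M) (b : M))

/-- the action on the quotient by an invariant subgroup -/
@[reducible] def quoAct (A : AddSubgroup M) (hA : ∀ y : Y, ∀ m ∈ A, y • m ∈ A) : DistribMulAction Y (M ⧸ A) where
  smul y := QuotientAddGroup.map A A (DistribMulAction.toAddMonoidHom M y) (fun m hm => hA y m hm)
  one_smul m := by
    induction m using QuotientAddGroup.induction_on with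
    | H m => exact congrArg (QuotientAddGroup.mk (s := A)) (one_smul Y m)
  mul_smul x y m := by
    induction m using QuotientAddGroup.induction_on with
    | H m => exact congrArg (QuotientAddGroup.mk (s := A)) (mul_smul x y m)
  smul_zero y := map_zero _
  smul_add y a b := map_add _ a b

end acts

universe u

variable {F : Type*} [Field F] {θ : F →+* F} {e : ℕ} {H : Good F θ e}

section modules

variable {P : Type u} [AddCommGroup P] [DistribMulAction (LS F e) P]

/-- `C_P(Z)` -/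
def B0 (H : Good F θ e) (P : Type u) [AddCommGroup P] [DistribMulAction (LS F e) P] : AddSubgroup P where
  carrier := {m | ∀ c, H.u 0 c • m = m}
  zero_mem' := fun _ => smul_zero _
  add_mem' := fun {a b} ha hb c => by rw [smul_add, ha, hb]
  neg_mem' := fun {a} ha c => by rw [smul_neg, ha]

theorem mem_B0 {m : P} : m ∈ B0 H P ↔ ∀ c, H.u 0 c • m = m := Iff.rfl

/-- the modules of CLAIM A -/
structure SM (H : Good F θ e) (P : Type u) [AddCommGroup P] [DistribMulAction (LS F e) P] : Prop where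
  two : ∀ m : P, m + m = 0
  quad : Qd H P
  c1 : ∀ b : F, b ≠ 0 → ∀ m : P, H.u 0 b • m = m → m ∈ B0 H P
  c2 : ∀ b : F, b ≠ 0 → ∀ m ∈ B0 H P, ∃ n : P, m = H.u 0 b • n - n
  c3 : ∀ m ∈ B0 H P, H.w • m ∈ B0 H P → m = 0

/-- `Inv X` : `X` is a submodule -/
def Inv (X : AddSubgroup P) : Prop := ∀ g : LS F e, ∀ x ∈ X, g • x ∈ X

theorem u_B0 {m : P} (hm : m ∈ B0 H P) (a b : F) : H.u a b • m = H.u a 0 • m := by
  have h1 : H.u a b = H.u a 0 * H.u 0 b := by rw [H.u_mul]; simp
  rw [h1, mul_smul, hm]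

theorem u_mem_B0 {m : P} (hm : m ∈ B0 H P) (a b : F) : H.u a b • m ∈ B0 H P := by
  intro c
  have h1 : H.u 0 c * H.u a b = H.u a b * H.u 0 c := by
    rw [H.u_mul, H.u_mul]
    congr 1
    · ring
    · rw [map_zero]; ring
  rw [← mul_smul, h1, mul_smul, hm]

theorem d_mem_B0 {m : P} (hm : m ∈ B0 H P) (k : Fˣ) : H.d k • m ∈ B0 H P := by
  intro c
  have hθ := theta_ne_zero θ k
  have h1 := H.d_mul_u k 0 (c * (θ k)⁻¹)
  have h2 : (0 : F) * k ^ 2 * (θ k)⁻¹ = 0 := by ring
  have h3 : c * (θ (k : F))⁻¹ * θ k = c := by field_simp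
  rw [h2, h3] at h1
  rw [← mul_smul, ← h1, mul_smul, hm]

/-- `[m, z]` -/
def fz (H : Good F θ e) (P : Type u) [AddCommGroup P] [DistribMulAction (LS F e) P] (b : F) : P →+ P :=
  DistribMulAction.toAddMonoidHom P (H.u 0 b) - AddMonoidHom.id P

theorem fz_apply (b : F) (m : P) : fz H P b m = H.u 0 b • m - m := rfl

variable [Finite P] (h : SM H P)
include h

theorem SM.fz_mem (b : F) (m : P) : fz H P b m ∈ B0 H P := fun c => h.quad c b m

theorem SM.sub_eq (m n : P) : m - n = m + n := by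
  rw [sub_eq_add_neg, neg_eq_of_add_eq_zero_left (h.two n)]

/-- `|X| = |X ∩ B0|²` -/
theorem SM.card_X {X : AddSubgroup P} (hX : Inv (F := F) (e := e) X) :
    Nat.card X = Nat.card (X ⊓ B0 H P : AddSubgroup P) * Nat.card (X ⊓ B0 H P : AddSubgroup P) ∧
      (∀ b : F, b ≠ 0 → ∀ m ∈ X, m ∈ B0 H P → ∃ n ∈ X, m = H.u 0 b • n - n) ∧
      ∀ x ∈ X, ∃ y ∈ X, ∃ z ∈ X, y ∈ B0 H P ∧ z ∈ B0 H P ∧ x = y + H.w • z := by
  set Y : AddSubgroup P := X ⊓ B0 H P with hY
  have hYpos : 0 < Nat.card Y := Nat.card_pos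
  -- (1) `[X, z]`
  have h1 : ∀ b : F, b ≠ 0 → ∃ g : X →+ Y, (∀ x : X, (g x : P) = H.u 0 b • (x : P) - x) ∧
      Nat.card X = Nat.card g.range * Nat.card Y := by
    intro b hb
    let g : X →+ Y :=
      { toFun := fun x => ⟨H.u 0 b • (x : P) - x, X.sub_mem (hX _ _ x.2) x.2, h.fz_mem b x⟩
        map_zero' := Subtype.ext (by show H.u 0 b • (0 : P) - 0 = 0; rw [smul_zero, sub_zero])
        map_add' := fun x y => Subtype.ext (by
          show H.u 0 b • ((x : P) + y) - (x + y) = (H.u 0 b • (x : P) - x) + (H.u 0 b • (y : P) - y)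
          rw [smul_add]; abel) }
    refine ⟨g, fun x => rfl, ?_⟩
    have h2 : Nat.card g.ker = Nat.card Y := by
      refine Nat.card_congr ⟨fun x => ⟨(x : X), x.1.2, h.c1 b hb _ ?_⟩, fun y => ⟨⟨y, y.2.1⟩, ?_⟩, ?_, ?_⟩
      · have h3 := congrArg (Subtype.val) (AddMonoidHom.mem_ker.1 x.2)
        exact sub_eq_zero.1 h3
      · exact AddMonoidHom.mem_ker.2 (Subtype.ext (sub_eq_zero.2 (y.2.2 b)))
      · intro x; rfl
      · intro y; rfl
    rw [← h2, AddSubgroup.card_eq_card_quotient_mul_card_addSubgroup g.ker]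
    congr 1
    exact Nat.card_congr (QuotientAddGroup.quotientKerEquivRange g).toEquiv
  -- (2) `Y × Y → X`
  let f : Y × Y → X := fun p => ⟨(p.1 : P) + H.w • (p.2 : P), X.add_mem p.1.2.1 (hX _ _ p.2.2.1)⟩
  have hf : Function.Injective f := by
    rintro ⟨a, b⟩ ⟨c, d⟩ hab
    have h3 : (a : P) + H.w • (b : P) = c + H.w • (d : P) := congrArg Subtype.val hab
    have h4 : H.w • ((b : P) - d) = (c : P) - a := by
      rw [smul_sub]
      have : H.w • (b : P) - H.w • (d : P) = (a + H.w • (b : P)) - a - H.w • (d : P) := by abel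
      rw [this, h3]; abel
    have h5 := h.c3 ((b : P) - d) (sub_mem b.2.2 d.2.2) (by rw [h4]; exact sub_mem c.2.2 a.2.2)
    rw [h5, smul_zero] at h4
    exact Prod.ext (Subtype.ext (sub_eq_zero.1 h4.symm).symm) (Subtype.ext (sub_eq_zero.1 h5))
  have hle1 : Nat.card Y * Nat.card Y ≤ Nat.card X := by
    rw [← Nat.card_prod]
    exact Nat.card_le_card_of_injective f hf
  have h01 : (1 : F) ≠ 0 := one_ne_zero
  have hr : ∀ b : F, b ≠ 0 → ∀ g : X →+ Y, Nat.card X = Nat.card g.range * Nat.card Y →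
      g.range = ⊤ := by
    intro b _ g hg
    apply AddSubgroup.eq_top_of_card_eq
    refine le_antisymm (AddSubgroup.card_le_card_addGroup _) ?_
    rw [hg] at hle1
    exact Nat.le_of_mul_le_mul_right hle1 hYpos
  have hcard : Nat.card X = Nat.card Y * Nat.card Y := by
    obtain ⟨g, -, hg⟩ := h1 1 h01
    rw [hg, hr 1 h01 g hg, AddSubgroup.card_top]
  refine ⟨hcard, ?_, ?_⟩
  · intro b hb m hmX hmB
    obtain ⟨g, hg1, hg⟩ := h1 b hb
    have h2 := hr b hb g hg
    have h3 : (⟨m, hmX, hmB⟩ : Y) ∈ g.range := by rw [h2]; exact AddSubgroup.mem_top _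
    obtain ⟨x, hx⟩ := h3
    refine ⟨x, x.2, ?_⟩
    rw [← hg1 x, hx]
  · intro x hx
    have hb : Function.Bijective f := by
      rw [Nat.bijective_iff_injective_and_card]
      exact ⟨hf, by rw [Nat.card_prod, hcard]⟩
    obtain ⟨⟨y, z⟩, hyz⟩ := hb.2 ⟨x, hx⟩
    exact ⟨y, y.2.1, z, z.2.1, y.2.2, z.2.2, (congrArg Subtype.val hyz).symm⟩

/-- submodules -/
theorem SM.sub {X : AddSubgroup P} (hX : Inv (F := F) (e := e) X) :
    letI := subAct (Y := LS F e) X hX
    SM H X ∧ ∀ m : X, m ∈ B0 H X ↔ (m : P) ∈ B0 H P := by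
  letI := subAct (Y := LS F e) X hX
  have hmem : ∀ m : X, m ∈ B0 H X ↔ (m : P) ∈ B0 H P := fun m =>
    ⟨fun hm c => congrArg Subtype.val (hm c), fun hm c => Subtype.ext (hm c)⟩
  refine ⟨⟨fun m => Subtype.ext (h.two m), fun b c m => Subtype.ext (h.quad b c m), ?_, ?_, ?_⟩, hmem⟩
  · intro b hb m hm
    exact (hmem m).2 (h.c1 b hb m (congrArg Subtype.val hm))
  · intro b hb m hm
    obtain ⟨n, hn, hmn⟩ := (h.card_X hX).2.1 b hb m m.2 ((hmem m).1 hm)
    exact ⟨⟨n, hn⟩, Subtype.ext hmn⟩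
  · intro m hm hwm
    exact Subtype.ext (h.c3 m ((hmem m).1 hm) ((hmem _).1 hwm))

/-- quotients -/
theorem SM.quo {X : AddSubgroup P} (hX : Inv (F := F) (e := e) X) :
    letI := quoAct (Y := LS F e) X hX
    SM H (P ⧸ X) ∧ ∀ m : P, (QuotientAddGroup.mk m : P ⧸ X) ∈ B0 H (P ⧸ X) ↔ ∃ n ∈ B0 H P, m - n ∈ X := by
  letI := quoAct (Y := LS F e) X hX
  have hact : ∀ (g : LS F e) (m : P), g • (QuotientAddGroup.mk m : P ⧸ X) = QuotientAddGroup.mk (g • m) :=
    fun _ _ => rfl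
  have h1 : ∀ b : F, b ≠ 0 → ∀ m : P, H.u 0 b • (QuotientAddGroup.mk m : P ⧸ X) = QuotientAddGroup.mk m →
      ∃ n ∈ B0 H P, m - n ∈ X := by
    intro b hb m hm
    rw [hact, QuotientAddGroup.eq] at hm
    have h2 : H.u 0 b • m - m ∈ X := by
      have := X.neg_mem hm
      rwa [neg_add, neg_neg, ← sub_eq_add_neg] at this
    obtain ⟨n, hn, hmn⟩ := (h.card_X hX).2.1 b hb _ h2 (h.fz_mem b m)
    refine ⟨m - n, h.c1 b hb _ ?_, by rw [sub_sub_cancel]; exact hn⟩
    rw [smul_sub]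
    have h3 : H.u 0 b • m - H.u 0 b • n = (H.u 0 b • m - m) - (H.u 0 b • n - n) + (m - n) := by abel
    rw [h3, hmn, sub_self, zero_add]
  have hmem : ∀ m : P, (QuotientAddGroup.mk m : P ⧸ X) ∈ B0 H (P ⧸ X) ↔ ∃ n ∈ B0 H P, m - n ∈ X := by
    intro m
    refine ⟨fun hm => h1 1 one_ne_zero m (hm 1), ?_⟩
    rintro ⟨n, hn, hmn⟩ c
    rw [hact, QuotientAddGroup.eq]
    have h3 := X.sub_mem hmn (hX (H.u 0 c) _ hmn)
    have h4 : m - n - H.u 0 c • (m - n) = -(H.u 0 c • m) + m := by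
      rw [smul_sub, hn]; abel
    rwa [h4] at h3
  refine ⟨⟨?_, ?_, ?_, ?_, ?_⟩, hmem⟩
  · intro m
    induction m using QuotientAddGroup.induction_on with
    | H m => exact congrArg (QuotientAddGroup.mk (s := X)) (h.two m)
  · intro b c m
    induction m using QuotientAddGroup.induction_on with
    | H m => exact congrArg (QuotientAddGroup.mk (s := X)) (h.quad b c m)
  · intro b hb m hm
    induction m using QuotientAddGroup.induction_on with
    | H m => exact (hmem m).2 (h1 b hb m hm)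
  · intro b hb m hm
    induction m using QuotientAddGroup.induction_on with
    | H m =>
      obtain ⟨n, hn, hmn⟩ := (hmem m).1 hm
      obtain ⟨p, hp⟩ := h.c2 b hb n hn
      refine ⟨QuotientAddGroup.mk p, ?_⟩
      have h2 : (QuotientAddGroup.mk m : P ⧸ X) = QuotientAddGroup.mk n := by
        rw [QuotientAddGroup.eq]
        have h3 := X.neg_mem hmn
        rwa [neg_sub, sub_eq_add_neg, add_comm] at h3
      rw [h2, hp]
      rfl
  · intro m hm hwm
    induction m using QuotientAddGroup.induction_on with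
    | H m =>
      obtain ⟨n, hn, hmn⟩ := (hmem m).1 hm
      obtain ⟨p, hp, hwp⟩ := (hmem (H.w • m)).1 hwm
      -- `w n - p ∈ X`
      have h2 : H.w • n - p ∈ X := by
        have h3 := X.sub_mem hwp (hX H.w _ hmn)
        have h4 : H.w • m - p - H.w • (m - n) = H.w • n - p := by rw [smul_sub]; abel
        rwa [h4] at h3
      obtain ⟨y, hyX, z, hzX, hy, hz, hyz⟩ := (h.card_X hX).2.2 _ h2
      have h5 : H.w • (n - z) = y + p := by
        rw [smul_sub]
        have h6 : H.w • n = (H.w • n - p) + p := by abel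
        rw [h6, hyz]; abel
      have h7 := h.c3 (n - z) (sub_mem hn hz) (by rw [h5]; exact add_mem hy hp)
      rw [QuotientAddGroup.eq_zero_iff]
      have h8 : m = (m - n) + z := by
        have h9 : n = z := sub_eq_zero.1 h7
        rw [h9]; abel
      rw [h8]
      exact X.add_mem hmn hzX

/-- **irreducible modules are natural** -/
theorem SM.exists_nat [Finite F] (h3 : 3 ≤ Nat.card F) (hne : ∃ m : P, m ≠ 0)
    (irr : ∀ X : AddSubgroup P, Inv (F := F) (e := e) X → X = ⊥ ∨ X = ⊤) :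
    ∃ f : P → (Fin 4 → F), Function.Bijective f ∧
    (∀ x y, f (x + y) = f x + f y) ∧ ∀ (g : LS F e) (m : P), f (g • m) = mv g.1 (f m) := by
  have hy : Hy H P := by
    refine ⟨h3, h.two, h.quad, irr, ?_⟩
    by_contra hcon
    push Not at hcon
    obtain ⟨m, hm⟩ := hne
    exact hm (h.c3 m (fun c => hcon _ _) (fun c => by rw [hcon, hcon]))
  exact hy.exists_nat

end modules

end Cfsg.Agent.Omega.NO1.SzMod

end

section


/-!
# THEOREM SZ (406 #19896), CLAIM A

`SM.claim : m ∈ B0 H P → [m, t_a, t_b] = 0`, by induction on `|P|`. Consequences: `SM.fix_of_fix`, `SM.comm_fix`,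
`SM.exists_comm`, `SM.card_fix`, `SM.card`.
-/

set_option autoImplicit false
set_option linter.unusedSectionVars false
set_option linter.style.haveILetI false

namespace Cfsg.Agent.Omega.NO1.SzMod

open Cfsg.Agent.LieRecognition.SzMatrix Cfsg.Agent.ThreePrime.SzRel Cfsg.Agent.Omega.TwoFFour

universe u

variable {F : Type*} [Field F] {θ : F →+* F} {e : ℕ} {H : Good F θ e}

theorem vv {M : Type*} [AddCommGroup M] {X : AddSubgroup M} {a b : X} (h : a = b) : (a : M) = b :=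
  congrArg Subtype.val h

section ops

variable {P : Type u} [AddCommGroup P] [DistribMulAction (LS F e) P]

/-- `X_a = t_a - 1` on `B0` -/
def XX (H : Good F θ e) (P : Type u) [AddCommGroup P] [DistribMulAction (LS F e) P] (a : F) :
    B0 H P →+ B0 H P where
  toFun m := ⟨H.u a 0 • (m : P) - m, sub_mem (u_mem_B0 m.2 _ _) m.2⟩
  map_zero' := Subtype.ext (by show H.u a 0 • (0 : P) - 0 = 0; rw [smul_zero, sub_zero])
  map_add' x y := Subtype.ext (by
    show H.u a 0 • ((x : P) + y) - (x + y) = (H.u a 0 • (x : P) - x) + (H.u a 0 • (y : P) - y)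
    rw [smul_add]; abel)

theorem XX_val (a : F) (m : B0 H P) : (XX H P a m : P) = H.u a 0 • (m : P) - m := rfl

/-- the unit `l θ(l)` -/
def kk (θ : F →+* F) (l : Fˣ) : Fˣ := l * Units.map (θ : F →* F) l

theorem kk_val (l : Fˣ) : ((kk θ l : Fˣ) : F) = l * θ l := rfl

/-- the torus on `B0` -/
def dd (H : Good F θ e) (P : Type u) [AddCommGroup P] [DistribMulAction (LS F e) P] (l : Fˣ) :
    B0 H P →+ B0 H P where
  toFun m := ⟨H.d (kk θ l) • (m : P), d_mem_B0 m.2 _⟩
  map_zero' := Subtype.ext (smul_zero _)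
  map_add' _ _ := Subtype.ext (smul_add _ _ _)

theorem dd_val (l : Fˣ) (m : B0 H P) : (dd H P l m : P) = H.d (kk θ l) • (m : P) := rfl

theorem u_u {m : P} (hm : m ∈ B0 H P) (a b : F) : H.u a 0 • H.u b 0 • m = H.u (a + b) 0 • m := by
  rw [← mul_smul, H.u_mul, u_B0 hm]

theorem XX_add (a b : F) (m : B0 H P) :
    XX H P (a + b) m = XX H P a m + XX H P b m + XX H P a (XX H P b m) := by
  apply Subtype.ext
  show H.u (a + b) 0 • (m : P) - m = (H.u a 0 • (m : P) - m) + (H.u b 0 • (m : P) - m) +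
    (H.u a 0 • (H.u b 0 • (m : P) - m) - (H.u b 0 • (m : P) - m))
  rw [smul_sub, u_u m.2]
  abel

theorem XX_comm (a b : F) (m : B0 H P) : XX H P a (XX H P b m) = XX H P b (XX H P a m) := by
  apply Subtype.ext
  show H.u a 0 • (H.u b 0 • (m : P) - m) - (H.u b 0 • (m : P) - m) =
    H.u b 0 • (H.u a 0 • (m : P) - m) - (H.u a 0 • (m : P) - m)
  rw [smul_sub, smul_sub, u_u m.2, u_u m.2, add_comm a b]
  abel

theorem XX_zero (m : B0 H P) : XX H P 0 m = 0 := by
  apply Subtype.ext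
  show H.u 0 0 • (m : P) - m = 0
  rw [H.u_zero, one_smul, sub_self]

theorem kk_tor (H : Good F θ e) (l : Fˣ) (a : F) :
    a * ((kk θ l : Fˣ) : F) ^ 2 * (θ (kk θ l : Fˣ))⁻¹ = θ l * a := by
  have h1 := l.ne_zero
  have h2 := theta_ne_zero θ l
  rw [kk_val, map_mul, H.sq]
  field_simp

theorem kk_e1 (H : Good F θ e) (l : Fˣ) : θ (kk θ l : Fˣ) * ((kk θ l : Fˣ) : F)⁻¹ = l := by
  have h1 := l.ne_zero
  have h2 := theta_ne_zero θ l
  rw [kk_val, map_mul, H.sq]
  field_simp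

theorem dd_XX (l : Fˣ) (a : F) (m : B0 H P) : dd H P l (XX H P a m) = XX H P (θ l * a) (dd H P l m) := by
  apply Subtype.ext
  show H.d (kk θ l) • (H.u a 0 • (m : P) - m) = H.u (θ l * a) 0 • H.d (kk θ l) • (m : P) - H.d (kk θ l) • (m : P)
  have h1 := H.d_mul_u (kk θ l) a 0
  rw [kk_tor H, zero_mul] at h1
  rw [smul_sub, ← mul_smul, ← mul_smul, h1]

/-- `X_a m = 0`, `a ≠ 0`, gives `m = X_a n` -/
theorem SM.exists_XX [Finite P] (h : SM H P) {a : F} (ha : a ≠ 0) {m : B0 H P} (hm : XX H P a m = 0) :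
    ∃ n : B0 H P, m = XX H P a n := by
  -- `t² = u 0 (a θ a)`
  have hθ : θ a ≠ 0 := (map_ne_zero θ).2 ha
  have hb : a * θ a ≠ 0 := mul_ne_zero ha hθ
  have hsq : H.u a 0 * H.u a 0 = H.u 0 (a * θ a) := by
    rw [H.u_mul]
    congr 1
    · exact H.add_self a
    · ring
  obtain ⟨n, hn⟩ := h.c2 _ hb m m.2
  have h1 : H.u 0 (a * θ a) • n - n = H.u a 0 • (H.u a 0 • n - n) - (H.u a 0 • n - n) := by
    rw [← hsq, mul_smul, smul_sub]
    have h2 := h.two (H.u a 0 • n)
    have h3 : H.u a 0 • H.u a 0 • n - H.u a 0 • n - (H.u a 0 • n - n)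
      = H.u a 0 • H.u a 0 • n + n - (H.u a 0 • n + H.u a 0 • n) := by abel
    rw [h3, h2, sub_zero, sub_eq_add_neg, neg_eq_of_add_eq_zero_left (h.two n)]
  set n' := H.u a 0 • n - n with hn'
  have h2 : (m : P) = H.u a 0 • n' - n' := by rw [hn, h1]
  have h3 : H.u a 0 • (m : P) - m = 0 := congrArg Subtype.val hm
  have h4 : n' ∈ B0 H P := by
    apply h.c1 _ hb
    rw [← hsq, mul_smul]
    have h5 : H.u a 0 • n' = m + n' := by rw [h2]; abel
    rw [h5, smul_add, h5]
    rw [sub_eq_zero.1 h3]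
    rw [← add_assoc, h.two, zero_add]
  exact ⟨⟨n', h4⟩, Subtype.ext h2⟩

end ops

/-- **CLAIM A**: `[B0, T, T] = 0`. -/
theorem SM.claim [Finite F] (h3 : 3 ≤ Nat.card F) : ∀ (n : ℕ) (P : Type u) [AddCommGroup P]
    [DistribMulAction (LS F e) P] [Finite P], Nat.card P = n → SM H P →
      ∀ (m : B0 H P) (a b : F), XX H P a (XX H P b m) = 0 := by
  intro n
  induction n using Nat.strong_induction_on with
  | _ n ih =>
  intro P _ _ _ hn h m a b
  classical
  letI : Fintype F := Fintype.ofFinite F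
  -- coordinates of a natural module
  have hfix : ∀ {Q : Type u} [AddCommGroup Q] [DistribMulAction (LS F e) Q] (f : Q → (Fin 4 → F)),
      Function.Bijective f → (∀ x y, f (x + y) = f x + f y) →
      (∀ (g : LS F e) (m : Q), f (g • m) = mv g.1 (f m)) → ∀ q : Q, q ∈ B0 H Q ↔ f q 2 = 0 ∧ f q 3 = 0 := by
    intro Q _ _ f hf hadd hact q
    constructor
    · intro hq
      have h4 := congrArg f (hq 1)
      rw [hact] at h4
      have h5 : mv (H.U 0 1) (f q) = f q := h4
      rw [mv_U] at h5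
      have h6 := congrFun h5 0
      have h7 := congrFun h5 1
      simp at h6 h7
      rw [h7] at h6
      simp at h6
      exact ⟨h6, h7⟩
    · rintro ⟨h4, h5⟩ c
      apply hf.1
      rw [hact]
      show mv (H.U 0 c) (f q) = f q
      rw [mv_U]
      apply ext4 <;> simp [h4, h5]
  have hXXc : ∀ {Q : Type u} [AddCommGroup Q] [DistribMulAction (LS F e) Q] (f : Q → (Fin 4 → F)),
      Function.Bijective f → (∀ x y, f (x + y) = f x + f y) →
      (∀ (g : LS F e) (m : Q), f (g • m) = mv g.1 (f m)) → ∀ (q : Q), q ∈ B0 H Q → ∀ c : F,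
        f (H.u c 0 • q - q) = ![c * f q 1, 0, 0, 0] := by
    intro Q _ _ f hf hadd hact q hq c
    obtain ⟨h4, h5⟩ := (hfix f hf hadd hact q).1 hq
    have hsub : ∀ x y, f (x - y) = f x - f y := by
      intro x y
      have h6 := hadd (x - y) y
      rw [sub_add_cancel] at h6
      rw [h6]; abel
    rw [hsub, hact]
    show mv (H.U c 0) (f q) - f q = _
    rw [mv_U]
    apply ext4 <;> simp [h4, h5]
  rcases subsingleton_or_nontrivial P with hP | hP
  · exact Subtype.ext (Subsingleton.elim _ _)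
  -- `M₁` minimal
  obtain ⟨X₁, hX₁, hX₁ne, hmin⟩ : ∃ X₁ : AddSubgroup P, Inv (F := F) (e := e) X₁ ∧ X₁ ≠ ⊥ ∧
      ∀ X : AddSubgroup P, Inv (F := F) (e := e) X → X ≤ X₁ → X = ⊥ ∨ X = X₁ := by
    have hne : ({X : AddSubgroup P | Inv (F := F) (e := e) X ∧ X ≠ ⊥}).Nonempty :=
      ⟨⊤, fun _ _ _ => AddSubgroup.mem_top _, fun h4 => by
        obtain ⟨x, hx⟩ := exists_ne (0 : P)
        exact hx (AddSubgroup.mem_bot.1 (h4 ▸ AddSubgroup.mem_top x))⟩
    obtain ⟨X₁, hX₁⟩ := (Set.toFinite _).exists_minimal hne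
    refine ⟨X₁, hX₁.prop.1, hX₁.prop.2, fun X hX hle => ?_⟩
    by_cases h4 : X = ⊥
    · exact Or.inl h4
    · exact Or.inr (le_antisymm hle (hX₁.le_of_le ⟨hX, h4⟩ hle))
  -- irreducible sub
  obtain ⟨f, hf, hfadd, hfact, hfmem⟩ : ∃ f : X₁ → (Fin 4 → F), Function.Bijective f ∧
      (∀ x y, f (x + y) = f x + f y) ∧
      (∀ (g : LS F e) (m : X₁), f ⟨g • (m : P), hX₁ g _ m.2⟩ = mv g.1 (f m)) ∧
      (∀ q : X₁, (q : P) ∈ B0 H P ↔ f q 2 = 0 ∧ f q 3 = 0) := by
    letI := subAct (Y := LS F e) X₁ hX₁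
    obtain ⟨h4, h5⟩ := h.sub hX₁
    obtain ⟨f, hf, hfadd, hfact⟩ := h4.exists_nat h3 (by
      by_contra hcon
      push Not at hcon
      apply hX₁ne
      rw [eq_bot_iff]
      intro x hx
      exact AddSubgroup.mem_bot.2 (congrArg Subtype.val (hcon ⟨x, hx⟩))) (by
      intro X hX
      have h6 : Inv (F := F) (e := e) (X.map X₁.subtype) := by
        rintro g _ ⟨x, hx, rfl⟩
        exact ⟨g • x, hX g x hx, rfl⟩
      rcases hmin _ h6 (by rintro _ ⟨x, -, rfl⟩; exact x.2) with h7 | h7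
      · left
        rw [eq_bot_iff]
        intro x hx
        have h8 : (x : P) ∈ X.map X₁.subtype := ⟨x, hx, rfl⟩
        rw [h7] at h8
        exact AddSubgroup.mem_bot.2 (Subtype.ext (AddSubgroup.mem_bot.1 h8))
      · right
        rw [AddSubgroup.eq_top_iff']
        intro x
        have h8 : (x : P) ∈ X.map X₁.subtype := by rw [h7]; exact x.2
        obtain ⟨y, hy, hyx⟩ := h8
        have h9 : y = x := Subtype.ext hyx
        rwa [h9] at hy)
    exact ⟨f, hf, hfadd, hfact, fun q => (h5 q).symm.trans (hfix f hf hfadd hfact q)⟩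
  by_cases htop : X₁ = ⊤
  · -- `P` irreducible
    have h4 : ∀ p : P, p ∈ X₁ := fun p => by rw [htop]; exact AddSubgroup.mem_top _
    letI := subAct (Y := LS F e) X₁ hX₁
    obtain ⟨-, h5⟩ := h.sub hX₁
    have h6 : ∀ (q : P) (_ : q ∈ B0 H P) (c : F), f ⟨H.u c 0 • q - q, h4 _⟩ = ![c * f ⟨q, h4 q⟩ 1, 0, 0, 0] := by
      intro q hq c
      exact hXXc f hf hfadd hfact ⟨q, h4 q⟩ ((h5 _).2 hq) c
    apply Subtype.ext
    have h7 := h6 _ (XX H P b m).2 a
    have h8 := h6 _ m.2 b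
    have h9 : f ⟨(XX H P b m : P), h4 _⟩ 1 = 0 := by
      have : f ⟨(XX H P b m : P), h4 _⟩ = ![b * f ⟨(m : P), h4 _⟩ 1, 0, 0, 0] := h8
      rw [this]; rfl
    rw [h9, mul_zero] at h7
    have hz : f 0 = 0 := by
      have := hfadd 0 0
      rw [add_zero] at this
      exact left_eq_add.1 this
    have h10 : f ⟨H.u a 0 • (XX H P b m : P) - (XX H P b m : P), h4 _⟩ = f 0 := by
      rw [h7, hz]
      apply ext4 <;> simp
    have h11 := vv (hf.1 h10)
    exact h11
  -- `M₂` maximal over `M₁`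
  obtain ⟨X₂, hX₂, hX₂ne, hle, hmax⟩ : ∃ X₂ : AddSubgroup P, Inv (F := F) (e := e) X₂ ∧ X₂ ≠ ⊤ ∧ X₁ ≤ X₂ ∧
      ∀ X : AddSubgroup P, Inv (F := F) (e := e) X → X₂ ≤ X → X = X₂ ∨ X = ⊤ := by
    have hne : ({X : AddSubgroup P | Inv (F := F) (e := e) X ∧ X ≠ ⊤ ∧ X₁ ≤ X}).Nonempty :=
      ⟨X₁, hX₁, htop, le_rfl⟩
    obtain ⟨X₂, hX₂⟩ := (Set.toFinite _).exists_maximal hne
    refine ⟨X₂, hX₂.prop.1, hX₂.prop.2.1, hX₂.prop.2.2, fun X hX hle => ?_⟩
    by_cases h4 : X = ⊤
    · exact Or.inr h4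
    · exact Or.inl (le_antisymm (hX₂.le_of_ge ⟨hX, h4, hX₂.prop.2.2.trans hle⟩ hle) hle)
  -- cards
  have hc1 : Nat.card (P ⧸ X₁) < n := by
    have h4 := AddSubgroup.card_eq_card_quotient_mul_card_addSubgroup X₁
    have h5 : 1 < Nat.card X₁ := by
      rw [AddSubgroup.one_lt_card_iff_ne_bot]; exact hX₁ne
    have h6 : 0 < Nat.card (P ⧸ X₁) := Nat.card_pos
    rw [← hn, h4]
    nlinarith
  have hc2 : Nat.card X₂ < n := by
    rw [← hn]
    refine lt_of_le_of_ne (AddSubgroup.card_le_card_addGroup _) fun h4 => hX₂ne ?_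
    exact AddSubgroup.eq_top_of_card_eq _ h4
  -- the induction hypotheses
  have ih1 : ∀ q ∈ B0 H P, ∀ a b : F, H.u a 0 • (H.u b 0 • q - q) - (H.u b 0 • q - q) ∈ X₁ := by
    intro q hq a b
    letI := quoAct (Y := LS F e) X₁ hX₁
    obtain ⟨h4, h5⟩ := h.quo hX₁
    have h6 : (QuotientAddGroup.mk q : P ⧸ X₁) ∈ B0 H (P ⧸ X₁) := (h5 q).2 ⟨q, hq, by rw [sub_self]; exact X₁.zero_mem⟩
    have h7 := congrArg Subtype.val (ih _ hc1 (P ⧸ X₁) rfl h4 ⟨_, h6⟩ a b)
    exact (QuotientAddGroup.eq_zero_iff _).1 h7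
  have ih1' : ∀ q ∈ B0 H P, ∀ a : F, a ≠ 0 → H.u a 0 • q - q ∈ X₁ →
      ∃ p ∈ B0 H P, q - (H.u a 0 • p - p) ∈ X₁ := by
    intro q hq a ha hqa
    letI := quoAct (Y := LS F e) X₁ hX₁
    obtain ⟨h4, h5⟩ := h.quo hX₁
    have h6 : (QuotientAddGroup.mk q : P ⧸ X₁) ∈ B0 H (P ⧸ X₁) := (h5 q).2 ⟨q, hq, by rw [sub_self]; exact X₁.zero_mem⟩
    obtain ⟨⟨p, hp⟩, hp'⟩ := h4.exists_XX ha (m := ⟨_, h6⟩) (Subtype.ext ((QuotientAddGroup.eq_zero_iff _).2 hqa))
    have h7 := congrArg Subtype.val hp'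
    induction p using QuotientAddGroup.induction_on with
    | H p =>
      obtain ⟨p', hp1, hp2⟩ := (h5 p).1 hp
      refine ⟨p', hp1, ?_⟩
      have h8 : (QuotientAddGroup.mk q : P ⧸ X₁) = QuotientAddGroup.mk (H.u a 0 • p - p) := h7
      have h9 : q - (H.u a 0 • p - p) ∈ X₁ := by
        have := (QuotientAddGroup.eq (s := X₁)).1 h8.symm
        rwa [add_comm, ← sub_eq_add_neg] at this
      have h10 := X₁.add_mem h9 (X₁.sub_mem (hX₁ (H.u a 0) _ hp2) hp2)
      have h11 : q - (H.u a 0 • p - p) + (H.u a 0 • (p - p') - (p - p')) = q - (H.u a 0 • p' - p') := by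
        rw [smul_sub]; abel
      rwa [h11] at h10
  have ih2 : ∀ q ∈ B0 H P, q ∈ X₂ → ∀ a b : F, H.u a 0 • (H.u b 0 • q - q) - (H.u b 0 • q - q) = 0 := by
    intro q hq hqX a b
    letI := subAct (Y := LS F e) X₂ hX₂
    obtain ⟨h4, h5⟩ := h.sub hX₂
    have h6 : (⟨q, hqX⟩ : X₂) ∈ B0 H X₂ := (h5 _).2 hq
    have h7 := vv (vv (ih _ hc2 X₂ rfl h4 ⟨_, h6⟩ a b))
    exact h7
  have ih2' : ∀ q ∈ B0 H P, q ∈ X₂ → ∀ a : F, a ≠ 0 → H.u a 0 • q - q = 0 →
      ∃ p ∈ B0 H P, p ∈ X₂ ∧ q = H.u a 0 • p - p := by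
    intro q hq hqX a ha hqa
    letI := subAct (Y := LS F e) X₂ hX₂
    obtain ⟨h4, h5⟩ := h.sub hX₂
    have h6 : (⟨q, hqX⟩ : X₂) ∈ B0 H X₂ := (h5 _).2 hq
    obtain ⟨p, hp⟩ := h4.exists_XX ha (m := ⟨_, h6⟩) (Subtype.ext (Subtype.ext hqa))
    refine ⟨((p : X₂) : P), (h5 _).1 p.2, (p : X₂).2, ?_⟩
    have h7 := vv (vv hp)
    exact h7
  -- the top factor
  obtain ⟨f', hf', hf'add, hf'act, hf'mem, hf'lift⟩ : ∃ f' : P → (Fin 4 → F), (∀ v, ∃ p, f' p = v) ∧
      (∀ x y, f' (x + y) = f' x + f' y) ∧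
      (∀ (g : LS F e) (m : P), f' (g • m) = mv g.1 (f' m)) ∧ (∀ p, f' p = 0 ↔ p ∈ X₂) ∧
      (∀ p, (f' p 2 = 0 ∧ f' p 3 = 0) ↔ ∃ q ∈ B0 H P, p - q ∈ X₂) := by
    letI := quoAct (Y := LS F e) X₂ hX₂
    obtain ⟨h4, h5⟩ := h.quo hX₂
    obtain ⟨f', hf, hfadd, hfact⟩ := h4.exists_nat h3 (by
      by_contra hcon
      push Not at hcon
      apply hX₂ne
      rw [AddSubgroup.eq_top_iff']
      intro x
      exact (QuotientAddGroup.eq_zero_iff x).1 (hcon (QuotientAddGroup.mk x))) (by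
      intro X hX
      have h6 : Inv (F := F) (e := e) (X.comap (QuotientAddGroup.mk' X₂)) := fun g x hx => hX g _ hx
      rcases hmax _ h6 (by
        intro x hx
        show (QuotientAddGroup.mk x : P ⧸ X₂) ∈ X
        rw [(QuotientAddGroup.eq_zero_iff x).2 hx]
        exact X.zero_mem) with h7 | h7
      · left
        rw [eq_bot_iff]
        intro x hx
        induction x using QuotientAddGroup.induction_on with
        | H x =>
          have h8 : x ∈ X.comap (QuotientAddGroup.mk' X₂) := hx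
          rw [h7] at h8
          exact AddSubgroup.mem_bot.2 ((QuotientAddGroup.eq_zero_iff x).2 h8)
      · right
        rw [AddSubgroup.eq_top_iff']
        intro x
        induction x using QuotientAddGroup.induction_on with
        | H x =>
          have h8 : x ∈ X.comap (QuotientAddGroup.mk' X₂) := by rw [h7]; exact AddSubgroup.mem_top _
          exact h8)
    have hz : f' 0 = 0 := by
      have := hfadd 0 0
      rw [add_zero] at this
      exact left_eq_add.1 this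
    refine ⟨fun p => f' (QuotientAddGroup.mk p), ?_,
      fun x y => hfadd (QuotientAddGroup.mk x) (QuotientAddGroup.mk y),
      fun g m => hfact g (QuotientAddGroup.mk m), ?_, ?_⟩
    · intro v
      obtain ⟨p, hp⟩ := hf.2 v
      induction p using QuotientAddGroup.induction_on with
      | H p => exact ⟨p, hp⟩
    · intro p
      rw [← QuotientAddGroup.eq_zero_iff p, ← hz]
      exact hf.1.eq_iff
    · intro p
      rw [← h5 p]
      exact (hfix f' hf hfadd hfact _).symm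
  have hf'sub : ∀ x y, f' (x - y) = f' x - f' y := by
    intro x y
    have h6 := hf'add (x - y) y
    rw [sub_add_cancel] at h6
    rw [h6]; abel
  -- bottom coordinates
  have hfz : f 0 = 0 := by
    have := hfadd 0 0
    rw [add_zero] at this
    exact left_eq_add.1 this
  choose E hE using fun v => hf.2 v
  have hEadd : ∀ v w, E (v + w) = E v + E w := fun v w => hf.1 (by rw [hE, hfadd, hE, hE])
  have hEB : ∀ v : Fin 4 → F, v 2 = 0 → v 3 = 0 → (E v : P) ∈ B0 H P := fun v h4 h5 =>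
    (hfmem _).2 (by rw [hE]; exact ⟨h4, h5⟩)
  have hEact : ∀ (g : LS F e) v, g • (E v : P) = E (mv g.1 v) := by
    intro g v
    have h4 := hfact g (E v)
    rw [hE] at h4
    have h5 : (⟨g • (E v : P), hX₁ g _ (E v).2⟩ : X₁) = E (mv g.1 v) := hf.1 (by rw [h4, hE])
    exact congrArg Subtype.val h5
  let e₀ : F →+ B0 H P :=
    { toFun := fun c => ⟨E ![c, 0, 0, 0], hEB _ rfl rfl⟩
      map_zero' := Subtype.ext (by
        have h4 : E ![0, 0, 0, 0] = 0 := hf.1 (by rw [hE, hfz]; apply ext4 <;> simp)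
        have h5 := vv h4
        exact h5)
      map_add' := fun c d => Subtype.ext (by
        have h4 : E ![c + d, 0, 0, 0] = E ![c, 0, 0, 0] + E ![d, 0, 0, 0] := by
          rw [← hEadd]; congr 1; apply ext4 <;> simp
        have h5 := vv h4
        exact h5) }
  let e₁ : F →+ B0 H P :=
    { toFun := fun c => ⟨E ![0, c, 0, 0], hEB _ rfl rfl⟩
      map_zero' := Subtype.ext (by
        have h4 : E ![0, 0, 0, 0] = 0 := hf.1 (by rw [hE, hfz]; apply ext4 <;> simp)
        have h5 := vv h4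
        exact h5)
      map_add' := fun c d => Subtype.ext (by
        have h4 : E ![0, c + d, 0, 0] = E ![0, c, 0, 0] + E ![0, d, 0, 0] := by
          rw [← hEadd]; congr 1; apply ext4 <;> simp
        have h5 := vv h4
        exact h5) }
  let π₀ : B0 H P →+ F :=
    { toFun := fun m => f' m 0
      map_zero' := by
        have h4 : f' 0 = 0 := (hf'mem 0).2 X₂.zero_mem
        show f' (0 : P) 0 = 0
        rw [h4]; rfl
      map_add' := fun x y => by
        show f' ((x : P) + y) 0 = _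
        rw [hf'add]; rfl }
  let π₁ : B0 H P →+ F :=
    { toFun := fun m => f' m 1
      map_zero' := by
        have h4 : f' 0 = 0 := (hf'mem 0).2 X₂.zero_mem
        show f' (0 : P) 1 = 0
        rw [h4]; rfl
      map_add' := fun x y => by
        show f' ((x : P) + y) 1 = _
        rw [hf'add]; rfl }
  have hB23 : ∀ m : B0 H P, f' m 2 = 0 ∧ f' m 3 = 0 := fun m =>
    (hf'lift m).2 ⟨m, m.2, by rw [sub_self]; exact X₂.zero_mem⟩
  have hπ : ∀ m : B0 H P, π₀ m = 0 → π₁ m = 0 → (m : P) ∈ X₂ := by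
    intro m h4 h5
    rw [← hf'mem]
    obtain ⟨h6, h7⟩ := hB23 m
    exact ext4 h4 h5 h6 h7
  have he₀X : ∀ c, ((e₀ c : B0 H P) : P) ∈ X₁ := fun c => (E _).2
  have he₁X : ∀ c, ((e₁ c : B0 H P) : P) ∈ X₁ := fun c => (E _).2
  have hD1 : ∀ m : B0 H P, (m : P) ∈ X₁ → ∃ c d, m = e₀ c + e₁ d := by
    intro m hm
    obtain ⟨h4, h5⟩ := (hfmem ⟨m, hm⟩).1 m.2
    refine ⟨f ⟨m, hm⟩ 0, f ⟨m, hm⟩ 1, Subtype.ext ?_⟩
    have h6 : (⟨m, hm⟩ : X₁) = E ![f ⟨m, hm⟩ 0, 0, 0, 0] + E ![0, f ⟨m, hm⟩ 1, 0, 0] := by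
      apply hf.1
      rw [← hEadd, hE]
      apply ext4 <;> simp [h4, h5]
    have h7 := vv h6
    exact h7
  have hXe₀ : ∀ a c, XX H P a (e₀ c) = 0 := by
    intro a c
    apply Subtype.ext
    show H.u a 0 • (E ![c, 0, 0, 0] : P) - E ![c, 0, 0, 0] = 0
    rw [hEact]
    have h4 : mv (H.u a 0).1 ![c, 0, 0, 0] = ![c, 0, 0, 0] := by
      show mv (H.U a 0) _ = _
      rw [mv_U]
      apply ext4 <;> simp
    rw [h4, sub_self]
  have hXe₁ : ∀ a c, XX H P a (e₁ c) = e₀ (a * c) := by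
    intro a c
    apply Subtype.ext
    show H.u a 0 • (E ![0, c, 0, 0] : P) - E ![0, c, 0, 0] = E ![a * c, 0, 0, 0]
    rw [hEact]
    have h4 : mv (H.u a 0).1 ![0, c, 0, 0] = ![a * c, 0, 0, 0] + ![0, c, 0, 0] := by
      show mv (H.U a 0) _ = _
      rw [mv_U]
      apply ext4 <;> simp
    rw [h4, hEadd]
    show (E ![a * c, 0, 0, 0] : P) + E ![0, c, 0, 0] - E ![0, c, 0, 0] = _
    rw [add_sub_cancel_right]
  have hcore : Core θ (B0 H P) (XX H P) (dd H P) e₀ e₁ π₀ π₁ :=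
    { two := H.add_self
      sq := H.sq
      ne_id := by
        obtain ⟨c, hc0, hc1⟩ := exists_ne_ne h3
        by_contra hcon
        push Not at hcon
        have h4 := H.sq c
        rw [hcon, hcon] at h4
        have h5 : c * (c - 1) = 0 := by linear_combination -h4
        rcases mul_eq_zero.1 h5 with h6 | h6
        · exact hc0 h6
        · exact hc1 (sub_eq_zero.1 h6)
      twoB := fun m => Subtype.ext (h.two m)
      X_add := XX_add
      X_comm := XX_comm
      X_zero := XX_zero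
      δ_X := dd_XX
      X_e₀ := hXe₀
      X_e₁ := hXe₁
      δ_e₀ := by
        intro l c
        apply Subtype.ext
        show H.d (kk θ l) • (E ![c, 0, 0, 0] : P) = E ![l * θ l * c, 0, 0, 0]
        rw [hEact]
        have h4 : mv (H.d (kk θ l)).1 ![c, 0, 0, 0] = ![l * θ l * c, 0, 0, 0] := by
          show mv (H.D (kk θ l)) _ = _
          rw [mv_D]
          apply ext4 <;> simp [kk_val]
        rw [h4]
      e₀_inj := by
        intro c d hcd
        have h4 : (E ![c, 0, 0, 0] : P) = E ![d, 0, 0, 0] := by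
          have h6 := vv hcd
          exact h6
        have h5 := congrArg f (Subtype.ext h4 : E ![c, 0, 0, 0] = E ![d, 0, 0, 0])
        rw [hE, hE] at h5
        exact congrFun h5 0
      π₀_e₀ := fun c => by
        show f' (e₀ c : P) 0 = 0
        rw [(hf'mem _).2 (hle (he₀X c))]; rfl
      π₀_e₁ := fun c => by
        show f' (e₁ c : P) 0 = 0
        rw [(hf'mem _).2 (hle (he₁X c))]; rfl
      π₁_e₀ := fun c => by
        show f' (e₀ c : P) 1 = 0
        rw [(hf'mem _).2 (hle (he₀X c))]; rfl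
      π₁_e₁ := fun c => by
        show f' (e₁ c : P) 1 = 0
        rw [(hf'mem _).2 (hle (he₁X c))]; rfl
      π₁_X := by
        intro a m
        obtain ⟨h4, h5⟩ := hB23 m
        show f' (H.u a 0 • (m : P) - m) 1 = 0
        rw [hf'sub, hf'act]
        show mv (H.U a 0) (f' m) 1 - f' m 1 = 0
        rw [mv_U]
        simp [h4, h5]
      π₀_X := by
        intro a m
        obtain ⟨h4, h5⟩ := hB23 m
        show f' (H.u a 0 • (m : P) - m) 0 = a * f' m 1
        rw [hf'sub, hf'act]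
        show mv (H.U a 0) (f' m) 0 - f' m 0 = a * f' m 1
        rw [mv_U]
        simp [h4, h5]
      π₁_δ := by
        intro l m
        show f' (H.d (kk θ l) • (m : P)) 1 = l * f' m 1
        rw [hf'act]
        show mv (H.D (kk θ l)) (f' m) 1 = l * f' m 1
        rw [mv_D, ← kk_e1 H l]
        rfl
      π₀_δ := by
        intro l m
        show f' (H.d (kk θ l) • (m : P)) 0 = l * θ l * f' m 0
        rw [hf'act]
        show mv (H.D (kk θ l)) (f' m) 0 = l * θ l * f' m 0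
        rw [mv_D]
        rfl
      π_surj := by
        obtain ⟨p, hp⟩ := hf' ![0, 1, 0, 0]
        obtain ⟨q, hq, hpq⟩ := (hf'lift p).1 (by rw [hp]; exact ⟨rfl, rfl⟩)
        refine ⟨⟨q, hq⟩, ?_⟩
        show f' q 1 = 1
        have h4 := (hf'mem _).2 hpq
        rw [hf'sub, hp] at h4
        have h5 := congrFun h4 1
        have h6 : (1 : F) - f' q 1 = 0 := h5
        linear_combination -h6
      top := fun a b m => hD1 _ (ih1 m m.2 a b)
      top' := by
        intro y hy a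
        rcases eq_or_ne a 0 with rfl | ha
        · exact ⟨0, by rw [XX_zero, map_zero]⟩
        · obtain ⟨c, d, hcd⟩ := hy a
          have h4 : H.u a 0 • (y : P) - y ∈ X₁ := by
            have h5 : ((XX H P a y : B0 H P) : P) = ((e₀ c + e₁ d : B0 H P) : P) := congrArg Subtype.val hcd
            rw [XX_val] at h5
            rw [h5]
            exact X₁.add_mem (he₀X c) (he₁X d)
          obtain ⟨p, hp, hyp⟩ := ih1' y y.2 a ha h4
          obtain ⟨c', d', hcd'⟩ := hD1 (y - XX H P a ⟨p, hp⟩) hyp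
          refine ⟨a * d', ?_⟩
          have h5 : y = XX H P a ⟨p, hp⟩ + (e₀ c' + e₁ d') := by rw [← hcd']; abel
          have h6 : XX H P a (XX H P a ⟨p, hp⟩) = 0 := by
            have h7 := XX_add a a (⟨p, hp⟩ : B0 H P)
            rw [H.add_self, XX_zero] at h7
            have h8 : XX H P a (⟨p, hp⟩ : B0 H P) + XX H P a ⟨p, hp⟩ = 0 := Subtype.ext (h.two _)
            rw [h8, zero_add] at h7
            exact h7.symm
          conv_lhs => rw [h5]
          rw [map_add, map_add, h6, hXe₀, hXe₁, zero_add, zero_add]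
      bot := fun m h4 h5 a b => Subtype.ext (ih2 m m.2 (hπ m h4 h5) a b)
      bot' := by
        intro m h4 h5 h6 a
        obtain ⟨p, hp, hpX, hmp⟩ := ih2' m m.2 (hπ m h4 h5) 1 one_ne_zero (congrArg Subtype.val h6)
        apply Subtype.ext
        show H.u a 0 • (m : P) - m = 0
        rw [hmp]
        exact ih2 p hp hpX a 1 }
  exact hcore.claim m a b

section cor

variable {P : Type u} [AddCommGroup P] [DistribMulAction (LS F e) P] [Finite F] [Finite P]

/-- (ii) `[B0, T]` is centralised by `T` -/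
theorem SM.comm_fix (h3 : 3 ≤ Nat.card F) (h : SM H P) {m : P} (hm : m ∈ B0 H P) (a b a' b' : F) :
    H.u a' b' • (H.u a b • m - m) = H.u a b • m - m := by
  have h1 := vv (SM.claim h3 _ P rfl h ⟨m, hm⟩ a' a)
  have h2 : H.u a' 0 • (H.u a 0 • m - m) - (H.u a 0 • m - m) = 0 := h1
  rw [u_B0 hm, u_B0 (sub_mem (u_mem_B0 hm a 0) hm), ← sub_eq_zero]
  exact h2

/-- (iii) `C_P(T) ≤ [B0, t]` -/
theorem SM.exists_comm (h : SM H P) {m : P} {a b : F} (ha : a ≠ 0) (hm : m ∈ B0 H P) (hfix : H.u a b • m = m) :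
    ∃ n ∈ B0 H P, m = H.u a b • n - n := by
  have h1 : XX H P a ⟨m, hm⟩ = 0 := by
    apply Subtype.ext
    show H.u a 0 • m - m = 0
    rw [← u_B0 hm a b, hfix, sub_self]
  obtain ⟨n, hn⟩ := h.exists_XX ha h1
  refine ⟨n, n.2, ?_⟩
  rw [u_B0 n.2]
  exact vv hn

/-- (i) an element of `B0` fixed by one `t ∈ T - Z` is fixed by `T` -/
theorem SM.fix_of_fix (h3 : 3 ≤ Nat.card F) (h : SM H P) {m : P} {a b : F} (ha : a ≠ 0) (hm : m ∈ B0 H P)
    (hfix : H.u a b • m = m) (a' b' : F) : H.u a' b' • m = m := by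
  obtain ⟨n, hn, hmn⟩ := h.exists_comm ha hm hfix
  rw [hmn]
  exact h.comm_fix h3 hn a b a' b'

/-- `C_P(T)` -/
def TT (H : Good F θ e) (P : Type u) [AddCommGroup P] [DistribMulAction (LS F e) P] : AddSubgroup P where
  carrier := {m | Fx H m}
  zero_mem' := Fx.zero
  add_mem' := Fx.add
  neg_mem' := Fx.neg

theorem mem_TT {m : P} : m ∈ TT H P ↔ ∀ a b, H.u a b • m = m := Iff.rfl

theorem TT_le : TT H P ≤ B0 H P := fun _ hm c => hm 0 c

/-- (iv) `|B0| = |C_P(T)|²` -/
theorem SM.card_TT (h3 : 3 ≤ Nat.card F) (h : SM H P) : Nat.card (B0 H P) = Nat.card (TT H P) * Nat.card (TT H P) := by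
  have h1 : Nat.card (XX H P 1).ker = Nat.card (TT H P) := by
    refine Nat.card_congr ⟨fun x => ⟨(x : B0 H P), fun a b => ?_⟩, fun y => ⟨⟨y, TT_le y.2⟩, ?_⟩, ?_, ?_⟩
    · have h4 := vv (AddMonoidHom.mem_ker.1 x.2)
      have h5 : H.u 1 0 • ((x : B0 H P) : P) - (x : B0 H P) = 0 := h4
      exact h.fix_of_fix h3 one_ne_zero (x : B0 H P).2 (sub_eq_zero.1 h5) a b
    · exact AddMonoidHom.mem_ker.2 (Subtype.ext (sub_eq_zero.2 (y.2 1 0)))
    · intro x; rfl
    · intro y; rfl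
  have h2 : Nat.card (XX H P 1).range = Nat.card (TT H P) := by
    refine Nat.card_congr ⟨fun x => ⟨(x : B0 H P), fun a b => ?_⟩, fun y => ⟨⟨y, TT_le y.2⟩, ?_⟩, ?_, ?_⟩
    · obtain ⟨_, ⟨n, rfl⟩⟩ := x
      exact h.comm_fix h3 n.2 1 0 a b
    · obtain ⟨n, hn, hyn⟩ := h.exists_comm one_ne_zero (TT_le y.2) (y.2 1 0)
      exact ⟨⟨n, hn⟩, Subtype.ext hyn.symm⟩
    · intro x; rfl
    · intro y; rfl
  rw [AddSubgroup.card_eq_card_quotient_mul_card_addSubgroup (XX H P 1).ker, h1,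
    Nat.card_congr (QuotientAddGroup.quotientKerEquivRange (XX H P 1)).toEquiv, h2]

/-- `|P| = |B0|²` -/
theorem SM.card (h : SM H P) : Nat.card P = Nat.card (B0 H P) * Nat.card (B0 H P) := by
  have h1 := (h.card_X (X := ⊤) (fun _ _ _ => AddSubgroup.mem_top _)).1
  rw [AddSubgroup.card_top, top_inf_eq] at h1
  exact h1

end cor

end Cfsg.Agent.Omega.NO1.SzMod

end
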